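import Cfsg.Agent.Lib.Helper9.TCData.G23P0.Main

set_option autoImplicit false
set_option maxRecDepth 1000000

namespace Cfsg.Agent.Helper9.TCData.G23P0
open Cfsg.Agent.Helper9.TC2 Cfsg.Agent.Helper9.LTC Cfsg.Agent.Helper9.LTCM Cfsg.Agent.Helper9.LTCP Cfsg.Agent.Helper9.TCData

theorem rot_src : chkRotSrcP tab relWords relLabs rotSrc = true := by decide +kernel

theorem rel_0 : relVecM 216 tab 111 257826 [Int.ofNat 82, Int.ofNat 31, Int.ofNat 171, Int.ofNat 154] = true := by decide +kernel

theorem rel_1 : relVecM 216 tab 120 236654 [Int.ofNat 129, Int.ofNat 176, Int.ofNat 103, Int.ofNat 124] = true := by decide +kernel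

theorem rel_2 : relVecM 216 tab 111 322437 [Int.ofNat 205, Int.ofNat 192, Int.ofNat 78, Int.ofNat 193] = true := by decide +kernel

theorem rel_3 : relVecM 216 tab 111 93374 [Int.ofNat 43, Int.ofNat 185, Int.ofNat 3, Int.ofNat 4] = true := by decide +kernel

/-- The relation vectors. -/
def rhos : List (List ℤ) := [[Int.ofNat 82, Int.ofNat 31, Int.ofNat 171, Int.ofNat 154],
  [Int.ofNat 129, Int.ofNat 176, Int.ofNat 103, Int.ofNat 124],
  [Int.ofNat 205, Int.ofNat 192, Int.ofNat 78, Int.ofNat 193],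
  [Int.ofNat 43, Int.ofNat 185, Int.ofNat 3, Int.ofNat 4]]

/-- Every relation vector is the relation of a closed path. -/
theorem rel_all : ∀ ρ ∈ rhos, ∃ i s, s < tab.n ∧ relVecM 216 tab i s ρ = true := by
  intro ρ hρ
  simp only [rhos, List.mem_cons, List.not_mem_nil, or_false] at hρ
  rcases hρ with rfl | rfl | rfl | rfl
  · exact ⟨_, _, by decide +kernel, rel_0⟩
  · exact ⟨_, _, by decide +kernel, rel_1⟩
  · exact ⟨_, _, by decide +kernel, rel_2⟩
  · exact ⟨_, _, by decide +kernel, rel_3⟩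

end Cfsg.Agent.Helper9.TCData.G23P0
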