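import Cfsg.Agent.Lib.Helper9.TCData.G23P0.Main

set_option autoImplicit false
set_option maxRecDepth 1000000

namespace Cfsg.Agent.Helper9.TCData.G23P0
open Cfsg.Agent.Helper9.TC2 Cfsg.Agent.Helper9.LTC Cfsg.Agent.Helper9.LTCM Cfsg.Agent.Helper9.LTCP Cfsg.Agent.Helper9.TCData

theorem e1_131072 : allRange 131072 4096 (fun x => chkEntP ptab 1 x) = true := by decide +kernel

theorem e1_135168 : allRange 135168 4096 (fun x => chkEntP ptab 1 x) = true := by decide +kernel

theorem e1_139264 : allRange 139264 4096 (fun x => chkEntP ptab 1 x) = true := by decide +kernel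

theorem e1_143360 : allRange 143360 4096 (fun x => chkEntP ptab 1 x) = true := by decide +kernel

theorem e1_147456 : allRange 147456 4096 (fun x => chkEntP ptab 1 x) = true := by decide +kernel

theorem e1_151552 : allRange 151552 4096 (fun x => chkEntP ptab 1 x) = true := by decide +kernel

theorem e1_155648 : allRange 155648 4096 (fun x => chkEntP ptab 1 x) = true := by decide +kernel

theorem e1_159744 : allRange 159744 4096 (fun x => chkEntP ptab 1 x) = true := by decide +kernel

end Cfsg.Agent.Helper9.TCData.G23P0
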