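import Cfsg.Agent.Lib.Helper9.TCData.G23P0.Main

set_option autoImplicit false
set_option maxRecDepth 1000000

namespace Cfsg.Agent.Helper9.TCData.G23P0
open Cfsg.Agent.Helper9.TC2 Cfsg.Agent.Helper9.LTC Cfsg.Agent.Helper9.LTCM Cfsg.Agent.Helper9.LTCP Cfsg.Agent.Helper9.TCData

theorem e0_98304 : allRange 98304 4096 (fun x => chkEntP ptab 0 x) = true := by decide +kernel

theorem e0_102400 : allRange 102400 4096 (fun x => chkEntP ptab 0 x) = true := by decide +kernel

theorem e0_106496 : allRange 106496 4096 (fun x => chkEntP ptab 0 x) = true := by decide +kernel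

theorem e0_110592 : allRange 110592 4096 (fun x => chkEntP ptab 0 x) = true := by decide +kernel

theorem e0_114688 : allRange 114688 4096 (fun x => chkEntP ptab 0 x) = true := by decide +kernel

theorem e0_118784 : allRange 118784 4096 (fun x => chkEntP ptab 0 x) = true := by decide +kernel

theorem e0_122880 : allRange 122880 4096 (fun x => chkEntP ptab 0 x) = true := by decide +kernel

theorem e0_126976 : allRange 126976 4096 (fun x => chkEntP ptab 0 x) = true := by decide +kernel

end Cfsg.Agent.Helper9.TCData.G23P0
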