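import Cfsg.Agent.Lib.Helper9.TCData.G23P0.Main

set_option autoImplicit false
set_option maxRecDepth 1000000

namespace Cfsg.Agent.Helper9.TCData.G23P0
open Cfsg.Agent.Helper9.TC2 Cfsg.Agent.Helper9.LTC Cfsg.Agent.Helper9.LTCM Cfsg.Agent.Helper9.LTCP Cfsg.Agent.Helper9.TCData

theorem e3_65536 : allRange 65536 4096 (fun x => chkEntP ptab 3 x) = true := by decide +kernel

theorem e3_69632 : allRange 69632 4096 (fun x => chkEntP ptab 3 x) = true := by decide +kernel

theorem e3_73728 : allRange 73728 4096 (fun x => chkEntP ptab 3 x) = true := by decide +kernel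

theorem e3_77824 : allRange 77824 4096 (fun x => chkEntP ptab 3 x) = true := by decide +kernel

theorem e3_81920 : allRange 81920 4096 (fun x => chkEntP ptab 3 x) = true := by decide +kernel

theorem e3_86016 : allRange 86016 4096 (fun x => chkEntP ptab 3 x) = true := by decide +kernel

theorem e3_90112 : allRange 90112 4096 (fun x => chkEntP ptab 3 x) = true := by decide +kernel

theorem e3_94208 : allRange 94208 4096 (fun x => chkEntP ptab 3 x) = true := by decide +kernel

end Cfsg.Agent.Helper9.TCData.G23P0
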