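import Cfsg.Agent.Lib.Helper9.TCData.G23P0.Main

set_option autoImplicit false
set_option maxRecDepth 1000000

namespace Cfsg.Agent.Helper9.TCData.G23P0
open Cfsg.Agent.Helper9.TC2 Cfsg.Agent.Helper9.LTC Cfsg.Agent.Helper9.LTCM Cfsg.Agent.Helper9.LTCP Cfsg.Agent.Helper9.TCData

theorem e0_163840 : allRange 163840 4096 (fun x => chkEntP ptab 0 x) = true := by decide +kernel

theorem e0_167936 : allRange 167936 4096 (fun x => chkEntP ptab 0 x) = true := by decide +kernel

theorem e0_172032 : allRange 172032 4096 (fun x => chkEntP ptab 0 x) = true := by decide +kernel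

theorem e0_176128 : allRange 176128 4096 (fun x => chkEntP ptab 0 x) = true := by decide +kernel

theorem e0_180224 : allRange 180224 4096 (fun x => chkEntP ptab 0 x) = true := by decide +kernel

theorem e0_184320 : allRange 184320 4096 (fun x => chkEntP ptab 0 x) = true := by decide +kernel

theorem e0_188416 : allRange 188416 4096 (fun x => chkEntP ptab 0 x) = true := by decide +kernel

theorem e0_192512 : allRange 192512 4096 (fun x => chkEntP ptab 0 x) = true := by decide +kernel

end Cfsg.Agent.Helper9.TCData.G23P0
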