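import Cfsg.Agent.Lib.Helper9.TCData.G23P0.Main

set_option autoImplicit false
set_option maxRecDepth 1000000

namespace Cfsg.Agent.Helper9.TCData.G23P0
open Cfsg.Agent.Helper9.TC2 Cfsg.Agent.Helper9.LTC Cfsg.Agent.Helper9.LTCM Cfsg.Agent.Helper9.LTCP Cfsg.Agent.Helper9.TCData

theorem e5_229376 : allRange 229376 4096 (fun x => chkEntP ptab 5 x) = true := by decide +kernel

theorem e5_233472 : allRange 233472 4096 (fun x => chkEntP ptab 5 x) = true := by decide +kernel

theorem e5_237568 : allRange 237568 4096 (fun x => chkEntP ptab 5 x) = true := by decide +kernel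

theorem e5_241664 : allRange 241664 4096 (fun x => chkEntP ptab 5 x) = true := by decide +kernel

theorem e5_245760 : allRange 245760 4096 (fun x => chkEntP ptab 5 x) = true := by decide +kernel

theorem e5_249856 : allRange 249856 4096 (fun x => chkEntP ptab 5 x) = true := by decide +kernel

theorem e5_253952 : allRange 253952 4096 (fun x => chkEntP ptab 5 x) = true := by decide +kernel

theorem e5_258048 : allRange 258048 4096 (fun x => chkEntP ptab 5 x) = true := by decide +kernel

end Cfsg.Agent.Helper9.TCData.G23P0
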