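import Cfsg.Agent.Lib.Helper9.TCData.G23P0.Main

set_option autoImplicit false
set_option maxRecDepth 1000000

namespace Cfsg.Agent.Helper9.TCData.G23P0
open Cfsg.Agent.Helper9.TC2 Cfsg.Agent.Helper9.LTC Cfsg.Agent.Helper9.LTCM Cfsg.Agent.Helper9.LTCP Cfsg.Agent.Helper9.TCData

theorem e0_262144 : allRange 262144 4096 (fun x => chkEntP ptab 0 x) = true := by decide +kernel

theorem e0_266240 : allRange 266240 4096 (fun x => chkEntP ptab 0 x) = true := by decide +kernel

theorem e0_270336 : allRange 270336 4096 (fun x => chkEntP ptab 0 x) = true := by decide +kernel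

theorem e0_274432 : allRange 274432 4096 (fun x => chkEntP ptab 0 x) = true := by decide +kernel

theorem e0_278528 : allRange 278528 4096 (fun x => chkEntP ptab 0 x) = true := by decide +kernel

theorem e0_282624 : allRange 282624 4096 (fun x => chkEntP ptab 0 x) = true := by decide +kernel

theorem e0_286720 : allRange 286720 4096 (fun x => chkEntP ptab 0 x) = true := by decide +kernel

theorem e0_290816 : allRange 290816 4096 (fun x => chkEntP ptab 0 x) = true := by decide +kernel

end Cfsg.Agent.Helper9.TCData.G23P0
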