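import Cfsg.Agent.Lib.Helper9.TCData.G23P0.Main

set_option autoImplicit false
set_option maxRecDepth 1000000

namespace Cfsg.Agent.Helper9.TCData.G23P0
open Cfsg.Agent.Helper9.TC2 Cfsg.Agent.Helper9.LTC Cfsg.Agent.Helper9.LTCM Cfsg.Agent.Helper9.LTCP Cfsg.Agent.Helper9.TCData

theorem e0_294912 : allRange 294912 4096 (fun x => chkEntP ptab 0 x) = true := by decide +kernel

theorem e0_299008 : allRange 299008 4096 (fun x => chkEntP ptab 0 x) = true := by decide +kernel

theorem e0_303104 : allRange 303104 4096 (fun x => chkEntP ptab 0 x) = true := by decide +kernel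

theorem e0_307200 : allRange 307200 4096 (fun x => chkEntP ptab 0 x) = true := by decide +kernel

theorem e0_311296 : allRange 311296 4096 (fun x => chkEntP ptab 0 x) = true := by decide +kernel

theorem e0_315392 : allRange 315392 4096 (fun x => chkEntP ptab 0 x) = true := by decide +kernel

theorem e0_319488 : allRange 319488 4096 (fun x => chkEntP ptab 0 x) = true := by decide +kernel

theorem e0_323584 : allRange 323584 3008 (fun x => chkEntP ptab 0 x) = true := by decide +kernel

end Cfsg.Agent.Helper9.TCData.G23P0
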