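import Cfsg.Agent.Lib.Helper9.TCData.G23P0.Rel

set_option autoImplicit false
set_option maxRecDepth 1000000

namespace Cfsg.Agent.Helper9.TCData.G23P0
open Cfsg.Agent.Helper9.TC2 Cfsg.Agent.Helper9.LTC Cfsg.Agent.Helper9.LTCM Cfsg.Agent.Helper9.LTCP

/-- The coefficients of the combinations of the relation vectors. -/
def combs : List (List ℤ) := [[Int.ofNat 215, Int.ofNat 210, Int.ofNat 156, Int.ofNat 95],
  [Int.ofNat 10, Int.ofNat 159, Int.ofNat 92, Int.ofNat 75],
  [Int.ofNat 195, Int.ofNat 49, Int.ofNat 40, Int.ofNat 59],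
  [Int.ofNat 175, Int.ofNat 144, Int.ofNat 193, Int.ofNat 7]]

/-- The combinations: the central generators are powers of the generator `3`, of order 3. -/
def tgts : List (List ℤ) := [vsub (unitV 0) (vsmul 2 (unitV 3)), unitV 1, vsub (unitV 2) (vsmul 2 (unitV 3)), vsmul 3 (unitV 3)]

theorem comb_ok : ∀ i < 4, veqM 216 (vcomb (combs.getD i []) rhos) (tgts.getD i []) = true := by
  decide +kernel

end Cfsg.Agent.Helper9.TCData.G23P0
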