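import Cfsg.Agent.Lib.Helper9.LTCP
import Cfsg.Agent.Lib.Helper9.TCData.G23P0.P0
import Cfsg.Agent.Lib.Helper9.TCData.G23P0.P1
import Cfsg.Agent.Lib.Helper9.TCData.G23P0.P2
import Cfsg.Agent.Lib.Helper9.TCData.G23P0.P3
import Cfsg.Agent.Lib.Helper9.TCData.G23P0.P4
import Cfsg.Agent.Lib.Helper9.TCData.G23P0.P5

set_option autoImplicit false
set_option maxRecDepth 1000000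

namespace Cfsg.Agent.Helper9.TCData.G23P0
open Cfsg.Agent.Helper9.TC2 Cfsg.Agent.Helper9.LTC Cfsg.Agent.Helper9.LTCM Cfsg.Agent.Helper9.LTCP Cfsg.Agent.Helper9.TCData

/-- The rotated relators without their heads, reversed. -/
noncomputable def rotBT : WT := (WT.node 63 (WT.node 31 (WT.node 15 (WT.node 7 (WT.node 3 (WT.node 1 (WT.leaf [0]) (WT.node 2 (WT.leaf [5, 2]) (WT.leaf [3, 0, 3, 0, 3, 0, 3, 0, 3, 0, 2, 0, 3, 0, 3, 0, 3, 0, 3, 0, 3, 0, 3, 0, 3, 0, 3, 0, 3, 0, 3, 0, 3, 0, 2, 0, 3, 0, 3, 0, 3, 0, 3, 0, 3, 0, 3]))) (WT.node 5 (WT.node 4 (WT.leaf [3, 1, 3, 1, 2, 1, 2, 1, 2, 1, 2, 1, 3, 1, 2, 1, 3, 1, 3, 1, 3, 3, 1, 3, 1, 3, 1, 3, 1, 3, 0, 2, 0, 2, 0, 2, 0, 3, 0, 2, 0, 2, 0, 3, 0, 2, 0, 3]) (WT.leaf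 [3, 0, 2, 0, 3, 0, 3, 0, 2, 0, 3, 0, 2, 0, 2, 0, 2, 0, 3, 0, 3, 0, 3, 0, 3, 0, 2, 0, 3, 0, 2, 0, 2, 0, 3, 0, 2, 0, 2, 0, 2, 0, 2, 0, 3, 0, 3])) (WT.node 6 (WT.leaf [2, 0, 2, 0, 3, 0, 2, 0, 2, 0, 2, 0, 2, 0, 3, 0, 3, 0, 3, 0, 2, 0, 3, 0, 3, 0, 2, 0, 3, 0, 2, 0, 2, 0, 2, 0, 3, 0, 3, 0, 3, 0, 3, 0, 2, 0, 3]) (WT.leaf [3, 0, 2, 0, 3, 0, 2, 0, 2, 0, 3, 0, 2, 0, 2, 0, 2, 0, 2, 0, 3, 0, 3, 0, 3, 0, 2, 0, 3, 0, 3, 0, 2, 0, 3, 0, 2, 0, 2, 0, 2, 0, 3, 0, 3, 0, 3])))) (WT.node 11 (WT.node 9 (WT.node 8 (WT.leaf [3, 0, 2, 0, 2, 0, 3, 0, 2, 0, 2, 0, 2, 0, 2, 0, 3, 0, 3, 0, 3, 0, 2, 0, 3, 0, 3, 0, 2, 0, 3, 0, 2, 0, 2, 0, 2, 0, 3, 0, 3, 0, 3, 0, 3, 0, 2]) (WT.leaf [2, 0, 3, 0, 2, 0, 2, 0, 3, 0, 2, 0, 3, 0, 3, 1,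 3, 1, 2, 1, 2, 1, 2, 1, 2, 1, 3, 1, 2, 1, 3, 1, 3, 1, 3, 3, 1, 3, 1, 3, 1, 3, 1, 3, 0, 2, 0, 2])) (WT.node 10 (WT.leaf [2, 0, 3, 0, 2, 0, 2, 0, 2, 0, 2, 0, 3, 0, 3, 0, 3, 0, 2, 0, 3, 0, 3, 0, 2, 0, 3, 0, 2, 0, 2, 0, 2, 0, 3, 0, 3, 0, 3, 0, 3, 0, 2, 0, 3, 0, 2]) (WT.leaf [2, 0, 3, 0, 2, 0, 2, 0, 3, 0, 2, 0, 2, 0, 2, 0, 2, 0, 3, 0, 3, 0, 3, 0, 2, 0, 3, 0, 3, 0, 2, 0, 3, 0, 2, 0, 2, 0, 2, 0, 3, 0, 3, 0, 3, 0, 3]))) (WT.node 13 (WT.node 12 (WT.leaf [3, 0, 3, 0, 3, 0, 2, 0, 3, 0, 2, 0, 2, 0, 3, 0, 2, 0, 2, 0, 2, 0, 2, 0, 3, 0, 3, 0, 3, 0, 2, 0, 3, 0, 3, 0, 2, 0, 3, 0, 2, 0, 2, 0, 2, 0, 3]) (WT.leaf [2, 0, 2, 0, 3, 0, 2, 0, 3, 0, 3, 1, 3, 1, 2, 1, 2, 1, 2, 1, 2, 1, 3, 1, 2, 1, 3, 1, 3, 1, 3, 3, 1, 3,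 1, 3, 1, 3, 1, 3, 0, 2, 0, 2, 0, 2, 0, 3])) (WT.node 14 (WT.leaf [3, 0, 3, 0, 3, 0, 3, 0, 2, 0, 3, 0, 3, 0, 3, 0, 3, 0, 3, 0, 3, 0, 3, 0, 3, 0, 3, 0, 3, 0, 3, 0, 2, 0, 3, 0, 3, 0, 3, 0, 3, 0, 3, 0, 3, 0, 3]) (WT.leaf [2, 0, 2, 0, 3, 0, 3, 0, 3, 0, 3, 0, 2, 0, 3, 0, 2, 0, 2, 0, 3, 0, 2, 0, 2, 0, 2, 0, 2, 0, 3, 0, 3, 0, 3, 0, 2, 0, 3, 0, 3, 0, 2, 0, 3, 0, 2]))))) (WT.node 23 (WT.node 19 (WT.node 17 (WT.node 16 (WT.leaf [3, 0, 3, 0, 2, 0, 3, 0, 3, 0, 3, 0, 3, 0, 3, 0, 3, 0, 3, 0, 3, 0, 3, 0, 3, 0, 3, 0, 2, 0, 3, 0, 3, 0, 3, 0, 3, 0, 3, 0, 3, 0, 3, 0, 3, 0, 3]) (WT.leaf [2, 0, 2, 0, 2, 0, 3, 0, 3, 0, 3, 0, 3, 0, 2, 0, 3, 0, 2, 0, 2, 0, 3, 0, 2, 0, 2, 0, 2, 0, 2, 0, 3, 0, 3, 0, 3, 0, 2, 0, 3, 0, 3, 0,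 2, 0, 3])) (WT.node 18 (WT.leaf [2, 0, 3, 0, 3, 0, 2, 0, 3, 0, 2, 0, 2, 0, 2, 0, 3, 0, 3, 0, 3, 0, 3, 0, 2, 0, 3, 0, 2, 0, 2, 0, 3, 0, 2, 0, 2, 0, 2, 0, 2, 0, 3, 0, 3, 0, 3]) (WT.leaf [3, 0, 3, 0, 3, 0, 3, 0, 3, 0, 3, 0, 3, 0, 3, 0, 3, 0, 2, 0, 3, 0, 3, 0, 3, 0, 3, 0, 3, 0, 3, 0, 3, 0, 3, 0, 3, 0, 3, 0, 3, 0, 2, 0, 3, 0, 3]))) (WT.node 21 (WT.node 20 (WT.leaf [3, 0, 3, 0, 3, 0, 2, 0, 3, 0, 3, 0, 3, 0, 3, 0, 3, 0, 3, 0, 3, 0, 3, 0, 3, 0, 3, 0, 3, 0, 2, 0, 3, 0, 3, 0, 3, 0, 3, 0, 3, 0, 3, 0, 3, 0, 3]) (WT.leaf [3, 0, 3, 1, 3, 1, 2, 1, 2, 1, 2, 1, 2, 1, 3, 1, 2, 1, 3, 1, 3, 1, 3, 3, 1, 3, 1, 3, 1, 3, 1, 3, 0, 2, 0, 2, 0, 2, 0, 3, 0, 2, 0, 2, 0, 3, 0, 2])) (WT.node 22 (WT.leaf [3, 0, 3, 0, 2, 0, 3,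 0, 3, 0, 2, 0, 3, 0, 2, 0, 2, 0, 2, 0, 3, 0, 3, 0, 3, 0, 3, 0, 2, 0, 3, 0, 2, 0, 2, 0, 3, 0, 2, 0, 2, 0, 2, 0, 2, 0, 3]) (WT.leaf [3, 0, 3, 0, 2, 0, 3, 0, 2, 0, 2, 0, 3, 0, 2, 0, 2, 0, 2, 0, 2, 0, 3, 0, 3, 0, 3, 0, 2, 0, 3, 0, 3, 0, 2, 0, 3, 0, 2, 0, 2, 0, 2, 0, 3, 0, 3])))) (WT.node 27 (WT.node 25 (WT.node 24 (WT.leaf [2, 0, 3, 0, 2, 0, 3, 0, 3, 1, 3, 1, 2, 1, 2, 1, 2, 1, 2, 1, 3, 1, 2, 1, 3, 1, 3, 1, 3, 3, 1, 3, 1, 3, 1, 3, 1, 3, 0, 2, 0, 2, 0, 2, 0, 3, 0, 2]) (WT.leaf [2, 0, 3, 0, 3, 0, 3, 0, 3, 0, 3, 0, 3, 0, 3, 0, 3, 0, 3, 0, 3, 0, 3, 0, 2, 0, 3, 0, 3, 0, 3, 0, 3, 0, 3, 0, 3, 0, 3, 0, 3, 0, 3, 0, 3, 0, 3])) (WT.node 26 (WT.leaf [3, 0, 2, 0, 3, 0, 3, 0, 3, 0, 3, 0, 3, 0, 3, 0, 3, 0, 3, 0, 3,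 0, 3, 0, 3, 0, 2, 0, 3, 0, 3, 0, 3, 0, 3, 0, 3, 0, 3, 0, 3, 0, 3, 0, 3, 0, 3]) (WT.leaf [2, 0, 2, 0, 3, 0, 3, 0, 3, 0, 2, 0, 3, 0, 3, 0, 2, 0, 3, 0, 2, 0, 2, 0, 2, 0, 3, 0, 3, 0, 3, 0, 3, 0, 2, 0, 3, 0, 2, 0, 2, 0, 3, 0, 2, 0, 2]))) (WT.node 29 (WT.node 28 (WT.leaf [2, 0, 3, 0, 3, 0, 3, 0, 3, 0, 2, 0, 3, 0, 2, 0, 2, 0, 3, 0, 2, 0, 2, 0, 2, 0, 2, 0, 3, 0, 3, 0, 3, 0, 2, 0, 3, 0, 3, 0, 2, 0, 3, 0, 2, 0, 2]) (WT.leaf [2, 0, 2, 0, 2, 0, 3, 0, 2, 0, 2, 0, 3, 0, 2, 0, 3, 0, 3, 1, 3, 1, 2, 1, 2, 1, 2, 1, 2, 1, 3, 1, 2, 1, 3, 1, 3, 1, 3, 3, 1, 3, 1, 3, 1, 3, 1, 3])) (WT.node 30 (WT.leaf [2, 0, 2, 0, 2, 0, 3, 0, 3, 0, 3, 0, 2, 0, 3, 0, 3, 0, 2, 0, 3, 0, 2, 0, 2, 0, 2, 0, 3, 0, 3, 0, 3, 0, 3, 0, 2, 0, 3,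 0, 2, 0, 2, 0, 3, 0, 2]) (WT.leaf [2, 0, 2, 0, 3, 0, 2, 0, 2, 0, 3, 0, 2, 0, 3, 0, 3, 1, 3, 1, 2, 1, 2, 1, 2, 1, 2, 1, 3, 1, 2, 1, 3, 1, 3, 1, 3, 3, 1, 3, 1, 3, 1, 3, 1, 3, 0, 2])))))) (WT.node 47 (WT.node 39 (WT.node 35 (WT.node 33 (WT.node 32 (WT.leaf [3, 0, 2, 0, 2, 0, 2, 0, 3, 0, 3, 0, 3, 0, 3, 0, 2, 0, 3, 0, 2, 0, 2, 0, 3, 0, 2, 0, 2, 0, 2, 0, 2, 0, 3, 0, 3, 0, 3, 0, 2, 0, 3, 0, 3, 0, 2]) (WT.leaf [2, 0, 2, 0, 2, 0, 2, 0, 3, 0, 3, 0, 3, 0, 2, 0, 3, 0, 3, 0, 2, 0, 3, 0, 2, 0, 2, 0, 2, 0, 3, 0, 3, 0, 3, 0, 3, 0, 2, 0, 3, 0, 2, 0, 2, 0, 3])) (WT.node 34 (WT.leaf [3, 0, 3, 0, 3, 0, 3, 0, 3, 0, 3, 0, 3, 0, 2, 0, 3, 0, 3, 0, 3, 0, 3, 0, 3, 0, 3, 0, 3, 0, 3, 0, 3, 0, 3, 0, 3, 0, 2, 0, 3, 0, 3, 0,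 3, 0, 3]) (WT.leaf [2, 0, 3, 0, 3, 0, 3, 0, 2, 0, 3, 0, 3, 0, 2, 0, 3, 0, 2, 0, 2, 0, 2, 0, 3, 0, 3, 0, 3, 0, 3, 0, 2, 0, 3, 0, 2, 0, 2, 0, 3, 0, 2, 0, 2, 0, 2]))) (WT.node 37 (WT.node 36 (WT.leaf [3, 0, 2, 0, 2, 0, 3, 0, 2, 0, 3, 0, 3, 1, 3, 1, 2, 1, 2, 1, 2, 1, 2, 1, 3, 1, 2, 1, 3, 1, 3, 1, 3, 3, 1, 3, 1, 3, 1, 3, 1, 3, 0, 2, 0, 2, 0, 2]) (WT.leaf [3, 0, 3, 0, 2, 0, 3, 0, 2, 0, 2, 0, 2, 0, 3, 0, 3, 0, 3, 0, 3, 0, 2, 0, 3, 0, 2, 0, 2, 0, 3, 0, 2, 0, 2, 0, 2, 0, 2, 0, 3, 0, 3, 0, 3, 0, 2])) (WT.node 38 (WT.leaf [2, 0, 3, 0, 3, 1, 3, 1, 2, 1, 2, 1, 2, 1, 2, 1, 3, 1, 2, 1, 3, 1, 3, 1, 3, 3, 1, 3, 1, 3, 1, 3, 1, 3, 0, 2, 0, 2, 0, 2, 0, 3, 0, 2, 0, 2, 0, 3]) (WT.leaf [3, 0, 3, 0, 3, 0, 3, 0, 3, 0, 3,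 0, 3, 0, 3, 0, 3, 0, 3, 0, 3, 0, 2, 0, 3, 0, 3, 0, 3, 0, 3, 0, 3, 0, 3, 0, 3, 0, 3, 0, 3, 0, 3, 0, 3, 0, 2])))) (WT.node 43 (WT.node 41 (WT.node 40 (WT.leaf [2, 0, 3, 0, 2, 0, 2, 0, 2, 0, 3, 0, 3, 0, 3, 0, 3, 0, 2, 0, 3, 0, 2, 0, 2, 0, 3, 0, 2, 0, 2, 0, 2, 0, 2, 0, 3, 0, 3, 0, 3, 0, 2, 0, 3, 0, 3]) (WT.leaf [3, 0, 2, 0, 3, 0, 2, 0, 2, 0, 2, 0, 3, 0, 3, 0, 3, 0, 3, 0, 2, 0, 3, 0, 2, 0, 2, 0, 3, 0, 2, 0, 2, 0, 2, 0, 2, 0, 3, 0, 3, 0, 3, 0, 2, 0, 3])) (WT.node 42 (WT.leaf [3, 0, 3, 0, 3, 0, 3, 0, 3, 0, 3, 0, 2, 0, 3, 0, 3, 0, 3, 0, 3, 0, 3, 0, 3, 0, 3, 0, 3, 0, 3, 0, 3, 0, 3, 0, 2, 0, 3, 0, 3, 0, 3, 0, 3, 0, 3]) (WT.leaf [3, 0, 3, 0, 3, 0, 2, 0, 3, 0, 3, 0, 2, 0, 3, 0, 2, 0, 2, 0, 2, 0, 3, 0, 3, 0,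 3, 0, 3, 0, 2, 0, 3, 0, 2, 0, 2, 0, 3, 0, 2, 0, 2, 0, 2, 0, 2]))) (WT.node 45 (WT.node 44 (WT.leaf [3, 0, 2, 0, 3, 0, 3, 1, 3, 1, 2, 1, 2, 1, 2, 1, 2, 1, 3, 1, 2, 1, 3, 1, 3, 1, 3, 3, 1, 3, 1, 3, 1, 3, 1, 3, 0, 2, 0, 2, 0, 2, 0, 3, 0, 2, 0, 2]) (WT.leaf [3, 0, 2, 0, 2, 0, 2, 0, 2, 0, 3, 0, 3, 0, 3, 0, 2, 0, 3, 0, 3, 0, 2, 0, 3, 0, 2, 0, 2, 0, 2, 0, 3, 0, 3, 0, 3, 0, 3, 0, 2, 0, 3, 0, 2, 0, 2])) (WT.node 46 (WT.leaf [3, 0, 3, 0, 3, 0, 3, 0, 2, 0, 3, 0, 2, 0, 2, 0, 3, 0, 2, 0, 2, 0, 2, 0, 2, 0, 3, 0, 3, 0, 3, 0, 2, 0, 3, 0, 3, 0, 2, 0, 3, 0, 2, 0, 2, 0, 2]) (WT.leaf [3, 0, 3, 0, 3, 0, 3, 0, 3, 0, 3, 0, 3, 0, 3, 0, 2, 0, 3, 0, 3, 0, 3, 0, 3, 0, 3, 0, 3, 0, 3, 0, 3, 0, 3, 0, 3, 0, 3, 0, 2, 0, 3, 0,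 3, 0, 3]))))) (WT.node 55 (WT.node 51 (WT.node 49 (WT.node 48 (WT.leaf [3, 0, 3, 0, 3, 0, 3, 0, 3, 0, 3, 0, 3, 0, 3, 0, 3, 0, 3, 0, 2, 0, 3, 0, 3, 0, 3, 0, 3, 0, 3, 0, 3, 0, 3, 0, 3, 0, 3, 0, 3, 0, 3, 0, 2, 0, 3]) (WT.leaf [3, 1, 3, 1, 3, 0, 2, 0, 2, 0, 2, 0, 3, 0, 2, 0, 2, 0, 3, 0, 2, 0, 3, 0, 3, 1, 3, 1, 2, 1, 2, 1, 2, 1, 2, 1, 3, 1, 2, 1, 3, 1, 3, 1, 3, 3, 1, 3])) (WT.node 50 (WT.leaf [3, 3, 1, 3, 1, 3, 1, 3, 1, 3, 0, 2, 0, 2, 0, 2, 0, 3, 0, 2, 0, 2, 0, 3, 0, 2, 0, 3, 0, 3, 1, 3, 1, 2, 1, 2, 1, 2, 1, 2, 1, 3, 1, 2, 1, 3, 1, 3]) (WT.leaf [3, 1, 3, 3, 1, 3, 1, 3, 1, 3, 1, 3, 0, 2, 0, 2, 0, 2, 0, 3, 0, 2, 0, 2, 0, 3, 0, 2, 0, 3, 0, 3, 1, 3, 1, 2, 1, 2, 1, 2, 1, 2, 1, 3, 1, 2, 1, 3]))) (WT.node 53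 (WT.node 52 (WT.leaf [2, 1, 3, 1, 3, 1, 3, 3, 1, 3, 1, 3, 1, 3, 1, 3, 0, 2, 0, 2, 0, 2, 0, 3, 0, 2, 0, 2, 0, 3, 0, 2, 0, 3, 0, 3, 1, 3, 1, 2, 1, 2, 1, 2, 1, 2, 1, 3]) (WT.leaf [3, 1, 3, 0, 2, 0, 2, 0, 2, 0, 3, 0, 2, 0, 2, 0, 3, 0, 2, 0, 3, 0, 3, 1, 3, 1, 2, 1, 2, 1, 2, 1, 2, 1, 3, 1, 2, 1, 3, 1, 3, 1, 3, 3, 1, 3, 1, 3])) (WT.node 54 (WT.leaf [3, 1, 2, 1, 2, 1, 2, 1, 2, 1, 3, 1, 2, 1, 3, 1, 3, 1, 3, 3, 1, 3, 1, 3, 1, 3, 1, 3, 0, 2, 0, 2, 0, 2, 0, 3, 0, 2, 0, 2, 0, 3, 0, 2, 0, 3, 0, 3]) (WT.leaf [2, 1, 3, 1, 2, 1, 3, 1, 3, 1, 3, 3, 1, 3, 1, 3, 1, 3, 1, 3, 0, 2, 0, 2, 0, 2, 0, 3, 0, 2, 0, 2, 0, 3, 0, 2, 0, 3, 0, 3, 1, 3, 1, 2, 1, 2, 1, 2])))) (WT.node 59 (WT.node 57 (WT.node 56 (WT.leaf [2, 1, 2, 1,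 2, 1, 2, 1, 3, 1, 2, 1, 3, 1, 3, 1, 3, 3, 1, 3, 1, 3, 1, 3, 1, 3, 0, 2, 0, 2, 0, 2, 0, 3, 0, 2, 0, 2, 0, 3, 0, 2, 0, 3, 0, 3, 1, 3]) (WT.leaf [3, 0, 2, 0, 2, 0, 2, 0, 3, 0, 2, 0, 2, 0, 3, 0, 2, 0, 3, 0, 3, 1, 3, 1, 2, 1, 2, 1, 2, 1, 2, 1, 3, 1, 2, 1, 3, 1, 3, 1, 3, 3, 1, 3, 1, 3, 1, 3])) (WT.node 58 (WT.leaf [2, 1, 2, 1, 2, 1, 3, 1, 2, 1, 3, 1, 3, 1, 3, 3, 1, 3, 1, 3, 1, 3, 1, 3, 0, 2, 0, 2, 0, 2, 0, 3, 0, 2, 0, 2, 0, 3, 0, 2, 0, 3, 0, 3, 1, 3, 1, 2]) (WT.leaf [3, 1, 2, 1, 3, 1, 3, 1, 3, 3, 1, 3, 1, 3, 1, 3, 1, 3, 0, 2, 0, 2, 0, 2, 0, 3, 0, 2, 0, 2, 0, 3, 0, 2, 0, 3, 0, 3, 1, 3, 1, 2, 1, 2, 1, 2, 1, 2]))) (WT.node 61 (WT.node 60 (WT.leaf [3, 1, 3, 1, 3, 1, 3, 0, 2, 0, 2, 0, 2, 0, 3, 0, 2, 0, 2,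 0, 3, 0, 2, 0, 3, 0, 3, 1, 3, 1, 2, 1, 2, 1, 2, 1, 2, 1, 3, 1, 2, 1, 3, 1, 3, 1, 3, 3]) (WT.leaf [3, 1, 3, 1, 3, 3, 1, 3, 1, 3, 1, 3, 1, 3, 0, 2, 0, 2, 0, 2, 0, 3, 0, 2, 0, 2, 0, 3, 0, 2, 0, 3, 0, 3, 1, 3, 1, 2, 1, 2, 1, 2, 1, 2, 1, 3, 1, 2])) (WT.node 62 (WT.leaf [2, 1, 2, 1, 3, 1, 2, 1, 3, 1, 3, 1, 3, 3, 1, 3, 1, 3, 1, 3, 1, 3, 0, 2, 0, 2, 0, 2, 0, 3, 0, 2, 0, 2, 0, 3, 0, 2, 0, 3, 0, 3, 1, 3, 1, 2, 1, 2]) (WT.leaf [0, 5]))))))) (WT.node 95 (WT.node 79 (WT.node 71 (WT.node 67 (WT.node 65 (WT.node 64 (WT.leaf [2, 2]) (WT.leaf [0, 2, 0, 3, 0, 2, 0, 2, 0, 3, 0, 2, 0, 3, 0, 3, 1, 3, 1, 2, 1, 2, 1, 2, 1, 2, 1, 3, 1, 2, 1, 3, 1, 3, 1, 3, 3, 1, 3, 1, 3, 1, 3, 1, 3, 0, 2, 0])) (WT.node 66 (WT.leaf [1,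 3, 1, 3, 1, 3, 3, 1, 3, 1, 3, 1, 3, 1, 3, 0, 2, 0, 2, 0, 2, 0, 3, 0, 2, 0, 2, 0, 3, 0, 2, 0, 3, 0, 3, 1, 3, 1, 2, 1, 2, 1, 2, 1, 2, 1, 3, 1]) (WT.leaf [0, 2, 0, 2, 0, 3, 0, 3, 0, 3, 0, 2, 0, 3, 0, 3, 0, 2, 0, 3, 0, 2, 0, 2, 0, 2, 0, 3, 0, 3, 0, 3, 0, 3, 0, 2, 0, 3, 0, 2, 0, 2, 0, 3, 0, 2, 0]))) (WT.node 69 (WT.node 68 (WT.leaf [1, 2, 1, 2, 1, 2, 1, 3, 1, 2, 1, 3, 1, 3, 1, 3, 3, 1, 3, 1, 3, 1, 3, 1, 3, 0, 2, 0, 2, 0, 2, 0, 3, 0, 2, 0, 2, 0, 3, 0, 2, 0, 3, 0, 3, 1, 3, 1]) (WT.leaf [0, 3, 0, 2, 0, 2, 0, 2, 0, 2, 0, 3, 0, 3, 0, 3, 0, 2, 0, 3, 0, 3, 0, 2, 0, 3, 0, 2, 0, 2, 0, 2, 0, 3, 0, 3, 0, 3, 0, 3, 0, 2, 0, 3, 0, 2, 0])) (WT.node 70 (WT.leaf [0, 3, 0, 2, 0, 2, 0, 2, 0, 3, 0, 3, 0, 3, 0, 3, 0, 2,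 0, 3, 0, 2, 0, 2, 0, 3, 0, 2, 0, 2, 0, 2, 0, 2, 0, 3, 0, 3, 0, 3, 0, 2, 0, 3, 0, 3, 0]) (WT.leaf [0, 3, 0, 2, 0, 2, 0, 3, 0, 2, 0, 2, 0, 2, 0, 2, 0, 3, 0, 3, 0, 3, 0, 2, 0, 3, 0, 3, 0, 2, 0, 3, 0, 2, 0, 2, 0, 2, 0, 3, 0, 3, 0, 3, 0, 3, 0])))) (WT.node 75 (WT.node 73 (WT.node 72 (WT.leaf [0, 3, 0, 3, 0, 2, 0, 3, 0, 2, 0, 2, 0, 2, 0, 3, 0, 3, 0, 3, 0, 3, 0, 2, 0, 3, 0, 2, 0, 2, 0, 3, 0, 2, 0, 2, 0, 2, 0, 2, 0, 3, 0, 3, 0, 3, 0]) (WT.leaf [0, 3, 0, 3, 1, 3, 1, 2, 1, 2, 1, 2, 1, 2, 1, 3, 1, 2, 1, 3, 1, 3, 1, 3, 3, 1, 3, 1, 3, 1, 3, 1, 3, 0, 2, 0, 2, 0, 2, 0, 3, 0, 2, 0, 2, 0, 3, 0])) (WT.node 74 (WT.leaf [0, 3, 0, 3, 0, 3, 0, 2, 0, 3, 0, 3, 0, 2, 0, 3, 0, 2, 0, 2, 0, 2, 0, 3, 0, 3, 0, 3, 0, 3, 0, 2,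 0, 3, 0, 2, 0, 2, 0, 3, 0, 2, 0, 2, 0, 2, 0]) (WT.leaf [0, 2, 0, 2, 0, 2, 0, 3, 0, 3, 0, 3, 0, 2, 0, 3, 0, 3, 0, 2, 0, 3, 0, 2, 0, 2, 0, 2, 0, 3, 0, 3, 0, 3, 0, 3, 0, 2, 0, 3, 0, 2, 0, 2, 0, 3, 0]))) (WT.node 77 (WT.node 76 (WT.leaf [0, 3, 0, 3, 0, 3, 0, 3, 0, 2, 0, 3, 0, 2, 0, 2, 0, 3, 0, 2, 0, 2, 0, 2, 0, 2, 0, 3, 0, 3, 0, 3, 0, 2, 0, 3, 0, 3, 0, 2, 0, 3, 0, 2, 0, 2, 0]) (WT.leaf [0, 3, 0, 2, 0, 3, 0, 3, 1, 3, 1, 2, 1, 2, 1, 2, 1, 2, 1, 3, 1, 2, 1, 3, 1, 3, 1, 3, 3, 1, 3, 1, 3, 1, 3, 1, 3, 0, 2, 0, 2, 0, 2, 0, 3, 0, 2, 0])) (WT.node 78 (WT.leaf [0, 2, 0, 3, 0, 3, 0, 3, 0, 3, 0, 2, 0, 3, 0, 2, 0, 2, 0, 3, 0, 2, 0, 2, 0, 2, 0, 2, 0, 3, 0, 3, 0, 3, 0, 2, 0, 3, 0, 3, 0, 2, 0, 3, 0, 2, 0]) (WT.leaf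 [1, 2, 1, 2, 1, 3, 1, 2, 1, 3, 1, 3, 1, 3, 3, 1, 3, 1, 3, 1, 3, 1, 3, 0, 2, 0, 2, 0, 2, 0, 3, 0, 2, 0, 2, 0, 3, 0, 2, 0, 3, 0, 3, 1, 3, 1, 2, 1]))))) (WT.node 87 (WT.node 83 (WT.node 81 (WT.node 80 (WT.leaf [0, 2, 0, 2, 0, 3, 0, 2, 0, 2, 0, 3, 0, 2, 0, 3, 0, 3, 1, 3, 1, 2, 1, 2, 1, 2, 1, 2, 1, 3, 1, 2, 1, 3, 1, 3, 1, 3, 3, 1, 3, 1, 3, 1, 3, 1, 3, 0]) (WT.leaf [1, 2, 1, 3, 1, 2, 1, 3, 1, 3, 1, 3, 3, 1, 3, 1, 3, 1, 3, 1, 3, 0, 2, 0, 2, 0, 2, 0, 3, 0, 2, 0, 2, 0, 3, 0, 2, 0, 3, 0, 3, 1, 3, 1, 2, 1, 2, 1])) (WT.node 82 (WT.leaf [0, 3, 0, 2, 0, 2, 0, 3, 0, 2, 0, 3, 0, 3, 1, 3, 1, 2, 1, 2, 1, 2, 1, 2, 1, 3, 1, 2, 1, 3, 1, 3, 1, 3, 3, 1, 3, 1, 3, 1, 3, 1, 3, 0, 2, 0, 2, 0]) (WT.leaf [1, 3, 1, 2, 1, 3,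 1, 3, 1, 3, 3, 1, 3, 1, 3, 1, 3, 1, 3, 0, 2, 0, 2, 0, 2, 0, 3, 0, 2, 0, 2, 0, 3, 0, 2, 0, 3, 0, 3, 1, 3, 1, 2, 1, 2, 1, 2, 1]))) (WT.node 85 (WT.node 84 (WT.leaf [0, 2, 0, 3, 0, 2, 0, 2, 0, 2, 0, 2, 0, 3, 0, 3, 0, 3, 0, 2, 0, 3, 0, 3, 0, 2, 0, 3, 0, 2, 0, 2, 0, 2, 0, 3, 0, 3, 0, 3, 0, 3, 0, 2, 0, 3, 0]) (WT.leaf [0, 3, 0, 3, 0, 3, 0, 3, 0, 3, 0, 3, 0, 3, 0, 3, 0, 3, 0, 3, 0, 3, 0, 2, 0, 3, 0, 3, 0, 3, 0, 3, 0, 3, 0, 3, 0, 3, 0, 3, 0, 3, 0, 3, 0, 3, 0])) (WT.node 86 (WT.leaf [0, 2, 0, 3, 0, 3, 0, 3, 0, 2, 0, 3, 0, 3, 0, 2, 0, 3, 0, 2, 0, 2, 0, 2, 0, 3, 0, 3, 0, 3, 0, 3, 0, 2, 0, 3, 0, 2, 0, 2, 0, 3, 0, 2, 0, 2, 0]) (WT.leaf [0, 2, 0, 3, 0, 2, 0, 3, 0, 3, 1, 3, 1, 2, 1, 2, 1, 2, 1, 2, 1, 3, 1, 2,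 1, 3, 1, 3, 1, 3, 3, 1, 3, 1, 3, 1, 3, 1, 3, 0, 2, 0, 2, 0, 2, 0, 3, 0])))) (WT.node 91 (WT.node 89 (WT.node 88 (WT.leaf [0, 2, 0, 2, 0, 3, 0, 3, 0, 3, 0, 3, 0, 2, 0, 3, 0, 2, 0, 2, 0, 3, 0, 2, 0, 2, 0, 2, 0, 2, 0, 3, 0, 3, 0, 3, 0, 2, 0, 3, 0, 3, 0, 2, 0, 3, 0]) (WT.leaf [0, 3, 0, 3, 0, 3, 0, 3, 0, 3, 0, 2, 0, 3, 0, 3, 0, 3, 0, 3, 0, 3, 0, 3, 0, 3, 0, 3, 0, 3, 0, 3, 0, 3, 0, 2, 0, 3, 0, 3, 0, 3, 0, 3, 0, 3, 0])) (WT.node 90 (WT.leaf [0, 3, 0, 3, 0, 3, 0, 2, 0, 3, 0, 2, 0, 2, 0, 3, 0, 2, 0, 2, 0, 2, 0, 2, 0, 3, 0, 3, 0, 3, 0, 2, 0, 3, 0, 3, 0, 2, 0, 3, 0, 2, 0, 2, 0, 2, 0]) (WT.leaf [1, 3, 1, 2, 1, 2, 1, 2, 1, 2, 1, 3, 1, 2, 1, 3, 1, 3, 1, 3, 3, 1, 3, 1, 3, 1, 3, 1, 3, 0, 2, 0, 2, 0, 2, 0, 3, 0,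 2, 0, 2, 0, 3, 0, 2, 0, 3, 0]))) (WT.node 93 (WT.node 92 (WT.leaf [0, 3, 0, 2, 0, 3, 0, 3, 0, 2, 0, 3, 0, 2, 0, 2, 0, 2, 0, 3, 0, 3, 0, 3, 0, 3, 0, 2, 0, 3, 0, 2, 0, 2, 0, 3, 0, 2, 0, 2, 0, 2, 0, 2, 0, 3, 0]) (WT.leaf [0, 3, 0, 2, 0, 3, 0, 3, 0, 3, 0, 3, 0, 3, 0, 3, 0, 3, 0, 3, 0, 3, 0, 3, 0, 3, 0, 2, 0, 3, 0, 3, 0, 3, 0, 3, 0, 3, 0, 3, 0, 3, 0, 3, 0, 3, 0])) (WT.node 94 (WT.leaf [1, 3, 1, 3, 0, 2, 0, 2, 0, 2, 0, 3, 0, 2, 0, 2, 0, 3, 0, 2, 0, 3, 0, 3, 1, 3, 1, 2, 1, 2, 1, 2, 1, 2, 1, 3, 1, 2, 1, 3, 1, 3, 1, 3, 3, 1, 3, 1]) (WT.leaf [1, 2, 1, 3, 1, 3, 1, 3, 3, 1, 3, 1, 3, 1, 3, 1, 3, 0, 2, 0, 2, 0, 2, 0, 3, 0, 2, 0, 2, 0, 3, 0, 2, 0, 3, 0, 3, 1, 3, 1, 2, 1, 2, 1, 2, 1, 2, 1])))))) (WT.node 111 (WT.node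 103 (WT.node 99 (WT.node 97 (WT.node 96 (WT.leaf [0, 2, 0, 2, 0, 2, 0, 2, 0, 3, 0, 3, 0, 3, 0, 2, 0, 3, 0, 3, 0, 2, 0, 3, 0, 2, 0, 2, 0, 2, 0, 3, 0, 3, 0, 3, 0, 3, 0, 2, 0, 3, 0, 2, 0, 2, 0]) (WT.leaf [1, 3, 1, 3, 1, 3, 0, 2, 0, 2, 0, 2, 0, 3, 0, 2, 0, 2, 0, 3, 0, 2, 0, 3, 0, 3, 1, 3, 1, 2, 1, 2, 1, 2, 1, 2, 1, 3, 1, 2, 1, 3, 1, 3, 1, 3, 3, 1])) (WT.node 98 (WT.leaf [1, 3, 1, 3, 1, 3, 1, 3, 0, 2, 0, 2, 0, 2, 0, 3, 0, 2, 0, 2, 0, 3, 0, 2, 0, 3, 0, 3, 1, 3, 1, 2, 1, 2, 1, 2, 1, 2, 1, 3, 1, 2, 1, 3, 1, 3, 1, 3]) (WT.leaf [3, 1, 3, 1, 3, 1, 3, 1, 3, 0, 2, 0, 2, 0, 2, 0, 3, 0, 2, 0, 2, 0, 3, 0, 2, 0, 3, 0, 3, 1, 3, 1, 2, 1, 2, 1, 2, 1, 2, 1, 3, 1, 2, 1, 3, 1, 3, 1]))) (WT.node 101 (WT.node 100 (WT.leaf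 [0, 3, 0, 3, 0, 3, 0, 3, 0, 3, 0, 3, 0, 3, 0, 3, 0, 3, 0, 2, 0, 3, 0, 3, 0, 3, 0, 3, 0, 3, 0, 3, 0, 3, 0, 3, 0, 3, 0, 3, 0, 3, 0, 2, 0, 3, 0]) (WT.leaf [0, 2, 0, 2, 0, 2, 0, 3, 0, 3, 0, 3, 0, 3, 0, 2, 0, 3, 0, 2, 0, 2, 0, 3, 0, 2, 0, 2, 0, 2, 0, 2, 0, 3, 0, 3, 0, 3, 0, 2, 0, 3, 0, 3, 0, 2, 0])) (WT.node 102 (WT.leaf [0, 2, 0, 3, 0, 3, 0, 3, 0, 3, 0, 3, 0, 3, 0, 3, 0, 3, 0, 3, 0, 3, 0, 3, 0, 2, 0, 3, 0, 3, 0, 3, 0, 3, 0, 3, 0, 3, 0, 3, 0, 3, 0, 3, 0, 3, 0]) (WT.leaf [0, 3, 0, 3, 0, 3, 0, 3, 0, 3, 0, 3, 0, 3, 0, 3, 0, 3, 0, 3, 0, 2, 0, 3, 0, 3, 0, 3, 0, 3, 0, 3, 0, 3, 0, 3, 0, 3, 0, 3, 0, 3, 0, 3, 0, 2, 0])))) (WT.node 107 (WT.node 105 (WT.node 104 (WT.leaf [1, 3, 3, 1, 3, 1, 3, 1, 3, 1, 3, 0, 2,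 0, 2, 0, 2, 0, 3, 0, 2, 0, 2, 0, 3, 0, 2, 0, 3, 0, 3, 1, 3, 1, 2, 1, 2, 1, 2, 1, 2, 1, 3, 1, 2, 1, 3, 1]) (WT.leaf [0, 3, 0, 3, 0, 3, 0, 3, 0, 3, 0, 3, 0, 3, 0, 3, 0, 2, 0, 3, 0, 3, 0, 3, 0, 3, 0, 3, 0, 3, 0, 3, 0, 3, 0, 3, 0, 3, 0, 3, 0, 2, 0, 3, 0, 3, 0])) (WT.node 106 (WT.leaf [0, 3, 0, 2, 0, 3, 0, 2, 0, 2, 0, 3, 0, 2, 0, 2, 0, 2, 0, 2, 0, 3, 0, 3, 0, 3, 0, 2, 0, 3, 0, 3, 0, 2, 0, 3, 0, 2, 0, 2, 0, 2, 0, 3, 0, 3, 0]) (WT.leaf [0, 2, 0, 3, 0, 2, 0, 2, 0, 2, 0, 3, 0, 3, 0, 3, 0, 3, 0, 2, 0, 3, 0, 2, 0, 2, 0, 3, 0, 2, 0, 2, 0, 2, 0, 2, 0, 3, 0, 3, 0, 3, 0, 2, 0, 3, 0]))) (WT.node 109 (WT.node 108 (WT.leaf [0, 2, 0, 2, 0, 3, 0, 2, 0, 2, 0, 2, 0, 2, 0, 3, 0, 3, 0, 3, 0, 2, 0, 3, 0, 3, 0, 2, 0, 3,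 0, 2, 0, 2, 0, 2, 0, 3, 0, 3, 0, 3, 0, 3, 0, 2, 0]) (WT.leaf [0, 3, 0, 3, 0, 3, 0, 3, 0, 2, 0, 3, 0, 3, 0, 3, 0, 3, 0, 3, 0, 3, 0, 3, 0, 3, 0, 3, 0, 3, 0, 3, 0, 2, 0, 3, 0, 3, 0, 3, 0, 3, 0, 3, 0, 3, 0])) (WT.node 110 (WT.leaf [0, 2, 0, 3, 0, 3, 0, 2, 0, 3, 0, 2, 0, 2, 0, 2, 0, 3, 0, 3, 0, 3, 0, 3, 0, 2, 0, 3, 0, 2, 0, 2, 0, 3, 0, 2, 0, 2, 0, 2, 0, 2, 0, 3, 0, 3, 0]) (WT.leaf [0, 3, 0, 3, 0, 2, 0, 3, 0, 3, 0, 2, 0, 3, 0, 2, 0, 2, 0, 2, 0, 3, 0, 3, 0, 3, 0, 3, 0, 2, 0, 3, 0, 2, 0, 2, 0, 3, 0, 2, 0, 2, 0, 2, 0, 2, 0]))))) (WT.node 119 (WT.node 115 (WT.node 113 (WT.node 112 (WT.leaf [0, 2, 0, 3, 0, 2, 0, 2, 0, 3, 0, 2, 0, 2, 0, 2, 0, 2, 0, 3, 0, 3, 0, 3, 0, 2, 0, 3, 0, 3, 0, 2, 0, 3, 0, 2, 0, 2, 0,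 2, 0, 3, 0, 3, 0, 3, 0]) (WT.leaf [0, 3, 0, 3, 0, 2, 0, 3, 0, 3, 0, 3, 0, 3, 0, 3, 0, 3, 0, 3, 0, 3, 0, 3, 0, 3, 0, 3, 0, 2, 0, 3, 0, 3, 0, 3, 0, 3, 0, 3, 0, 3, 0, 3, 0, 3, 0])) (WT.node 114 (WT.leaf [0, 3, 0, 3, 0, 3, 0, 2, 0, 3, 0, 3, 0, 3, 0, 3, 0, 3, 0, 3, 0, 3, 0, 3, 0, 3, 0, 3, 0, 3, 0, 2, 0, 3, 0, 3, 0, 3, 0, 3, 0, 3, 0, 3, 0, 3, 0]) (WT.leaf [0, 2, 0, 2, 0, 3, 0, 2, 0, 3, 0, 3, 1, 3, 1, 2, 1, 2, 1, 2, 1, 2, 1, 3, 1, 2, 1, 3, 1, 3, 1, 3, 3, 1, 3, 1, 3, 1, 3, 1, 3, 0, 2, 0, 2, 0, 2, 0]))) (WT.node 117 (WT.node 116 (WT.leaf [1, 3, 1, 3, 3, 1, 3, 1, 3, 1, 3, 1, 3, 0, 2, 0, 2, 0, 2, 0, 3, 0, 2, 0, 2, 0, 3, 0, 2, 0, 3, 0, 3, 1, 3, 1, 2, 1, 2, 1, 2, 1, 2, 1, 3, 1, 2, 1]) (WT.leaf [0, 3, 0, 3, 0,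 2, 0, 3, 0, 2, 0, 2, 0, 3, 0, 2, 0, 2, 0, 2, 0, 2, 0, 3, 0, 3, 0, 3, 0, 2, 0, 3, 0, 3, 0, 2, 0, 3, 0, 2, 0, 2, 0, 2, 0, 3, 0])) (WT.node 118 (WT.leaf [0, 3, 1, 3, 1, 2, 1, 2, 1, 2, 1, 2, 1, 3, 1, 2, 1, 3, 1, 3, 1, 3, 3, 1, 3, 1, 3, 1, 3, 1, 3, 0, 2, 0, 2, 0, 2, 0, 3, 0, 2, 0, 2, 0, 3, 0, 2, 0]) (WT.leaf [0, 3, 0, 3, 0, 3, 0, 3, 0, 3, 0, 3, 0, 2, 0, 3, 0, 3, 0, 3, 0, 3, 0, 3, 0, 3, 0, 3, 0, 3, 0, 3, 0, 3, 0, 3, 0, 2, 0, 3, 0, 3, 0, 3, 0, 3, 0])))) (WT.node 123 (WT.node 121 (WT.node 120 (WT.leaf [0, 3, 0, 2, 0, 3, 0, 2, 0, 2, 0, 2, 0, 3, 0, 3, 0, 3, 0, 3, 0, 2, 0, 3, 0, 2, 0, 2, 0, 3, 0, 2, 0, 2, 0, 2, 0, 2, 0, 3, 0, 3, 0, 3, 0, 2, 0]) (WT.leaf [0, 2, 0, 2, 0, 2, 0, 3, 0, 2, 0, 2, 0, 3, 0, 2, 0, 3,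 0, 3, 1, 3, 1, 2, 1, 2, 1, 2, 1, 2, 1, 3, 1, 2, 1, 3, 1, 3, 1, 3, 3, 1, 3, 1, 3, 1, 3, 1])) (WT.node 122 (WT.leaf [0, 2, 0, 3, 0, 3, 1, 3, 1, 2, 1, 2, 1, 2, 1, 2, 1, 3, 1, 2, 1, 3, 1, 3, 1, 3, 3, 1, 3, 1, 3, 1, 3, 1, 3, 0, 2, 0, 2, 0, 2, 0, 3, 0, 2, 0, 2, 0]) (WT.leaf [1, 2, 1, 2, 1, 2, 1, 2, 1, 3, 1, 2, 1, 3, 1, 3, 1, 3, 3, 1, 3, 1, 3, 1, 3, 1, 3, 0, 2, 0, 2, 0, 2, 0, 3, 0, 2, 0, 2, 0, 3, 0, 2, 0, 3, 0, 3, 1]))) (WT.node 125 (WT.node 124 (WT.leaf [1, 3, 0, 2, 0, 2, 0, 2, 0, 3, 0, 2, 0, 2, 0, 3, 0, 2, 0, 3, 0, 3, 1, 3, 1, 2, 1, 2, 1, 2, 1, 2, 1, 3, 1, 2, 1, 3, 1, 3, 1, 3, 3, 1, 3, 1, 3, 1]) (WT.leaf [0, 3, 0, 3, 0, 3, 0, 3, 0, 3, 0, 3, 0, 3, 0, 2, 0, 3, 0, 3, 0, 3, 0, 3, 0, 3, 0, 3, 0, 3, 0, 3,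 0, 3, 0, 3, 0, 3, 0, 2, 0, 3, 0, 3, 0, 3, 0])) (WT.node 126 (WT.leaf [4, 4, 4, 4, 4, 4, 4, 4, 4, 4, 4, 4]) (WT.leaf [2, 0]))))))))

/-- The labels of the rotated relators, packed. -/
noncomputable def rotANT : BT := (BT.node 63 (BT.node 31 (BT.node 15 (BT.node 7 (BT.node 3 (BT.node 1 (BT.leaf 1) (BT.node 2 (BT.leaf 0) (BT.leaf 1073741824))) (BT.node 5 (BT.node 4 (BT.leaf 0) (BT.leaf 35184372088832)) (BT.node 6 (BT.leaf 35184372088832) (BT.leaf 35184372088832)))) (BT.node 11 (BT.node 9 (BT.node 8 (BT.leaf 35184372088832) (BT.leaf 0)) (BT.node 10 (BT.leaf 35184372088832) (BT.leaf 35184372088832))) (BT.node 13 (BT.node 12 (BT.leaf 35184372088832) (BT.leaf 0)) (BT.node 14 (BT.leaf 1073741824) (BT.leaf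 35184372088832))))) (BT.node 23 (BT.node 19 (BT.node 17 (BT.node 16 (BT.leaf 1073741824) (BT.leaf 35184372088832)) (BT.node 18 (BT.leaf 35184372088832) (BT.leaf 1073741824))) (BT.node 21 (BT.node 20 (BT.leaf 1073741824) (BT.leaf 0)) (BT.node 22 (BT.leaf 35184372088832) (BT.leaf 35184372088832)))) (BT.node 27 (BT.node 25 (BT.node 24 (BT.leaf 0) (BT.leaf 1073741824)) (BT.node 26 (BT.leaf 1073741824) (BT.leaf 35184372088832))) (BT.node 29 (BT.node 28 (BT.leaf 35184372088832) (BT.leaf 0)) (BT.node 30 (BT.leaf 35184372088832) (BT.leaf 0)))))) (BT.node 47 (BT.node 39 (BT.node 35 (BT.node 33 (BT.node 32 (BT.leaf 35184372088832) (BT.leaf 35184372088832)) (BT.node 34 (BT.leaf 1073741824) (BT.leaf 35184372088832)))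 (BT.node 37 (BT.node 36 (BT.leaf 0) (BT.leaf 35184372088832)) (BT.node 38 (BT.leaf 0) (BT.leaf 1073741824)))) (BT.node 43 (BT.node 41 (BT.node 40 (BT.leaf 35184372088832) (BT.leaf 35184372088832)) (BT.node 42 (BT.leaf 1073741824) (BT.leaf 35184372088832))) (BT.node 45 (BT.node 44 (BT.leaf 0) (BT.leaf 35184372088832)) (BT.node 46 (BT.leaf 35184372088832) (BT.leaf 1073741824))))) (BT.node 55 (BT.node 51 (BT.node 49 (BT.node 48 (BT.leaf 1073741824) (BT.leaf 0)) (BT.node 50 (BT.leaf 0) (BT.leaf 0))) (BT.node 53 (BT.node 52 (BT.leaf 0) (BT.leaf 0)) (BT.node 54 (BT.leaf 0) (BT.leaf 0)))) (BT.node 59 (BT.node 57 (BT.node 56 (BT.leaf 0) (BT.leaf 0)) (BT.node 58 (BT.leaf 0) (BT.leaf 0))) (BT.node 61 (BT.node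 60 (BT.leaf 0) (BT.leaf 0)) (BT.node 62 (BT.leaf 0) (BT.leaf 0))))))) (BT.node 95 (BT.node 79 (BT.node 71 (BT.node 67 (BT.node 65 (BT.node 64 (BT.leaf 32768) (BT.leaf 0)) (BT.node 66 (BT.leaf 0) (BT.leaf 35184372088832))) (BT.node 69 (BT.node 68 (BT.leaf 0) (BT.leaf 35184372088832)) (BT.node 70 (BT.leaf 35184372088832) (BT.leaf 35184372088832)))) (BT.node 75 (BT.node 73 (BT.node 72 (BT.leaf 35184372088832) (BT.leaf 0)) (BT.node 74 (BT.leaf 35184372088832) (BT.leaf 35184372088832))) (BT.node 77 (BT.node 76 (BT.leaf 35184372088832) (BT.leaf 0)) (BT.node 78 (BT.leaf 35184372088832) (BT.leaf 0))))) (BT.node 87 (BT.node 83 (BT.node 81 (BT.node 80 (BT.leaf 0) (BT.leaf 0)) (BT.node 82 (BT.leaf 0) (BT.leaf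 0))) (BT.node 85 (BT.node 84 (BT.leaf 35184372088832) (BT.leaf 1073741824)) (BT.node 86 (BT.leaf 35184372088832) (BT.leaf 0)))) (BT.node 91 (BT.node 89 (BT.node 88 (BT.leaf 35184372088832) (BT.leaf 1073741824)) (BT.node 90 (BT.leaf 35184372088832) (BT.leaf 0))) (BT.node 93 (BT.node 92 (BT.leaf 35184372088832) (BT.leaf 1073741824)) (BT.node 94 (BT.leaf 0) (BT.leaf 0)))))) (BT.node 111 (BT.node 103 (BT.node 99 (BT.node 97 (BT.node 96 (BT.leaf 35184372088832) (BT.leaf 0)) (BT.node 98 (BT.leaf 0) (BT.leaf 0))) (BT.node 101 (BT.node 100 (BT.leaf 1073741824) (BT.leaf 35184372088832)) (BT.node 102 (BT.leaf 1073741824) (BT.leaf 1073741824)))) (BT.node 107 (BT.node 105 (BT.node 104 (BT.leaf 0) (BT.leaf 1073741824))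 (BT.node 106 (BT.leaf 35184372088832) (BT.leaf 35184372088832))) (BT.node 109 (BT.node 108 (BT.leaf 35184372088832) (BT.leaf 1073741824)) (BT.node 110 (BT.leaf 35184372088832) (BT.leaf 35184372088832))))) (BT.node 119 (BT.node 115 (BT.node 113 (BT.node 112 (BT.leaf 35184372088832) (BT.leaf 1073741824)) (BT.node 114 (BT.leaf 1073741824) (BT.leaf 0))) (BT.node 117 (BT.node 116 (BT.leaf 0) (BT.leaf 35184372088832)) (BT.node 118 (BT.leaf 0) (BT.leaf 1073741824)))) (BT.node 123 (BT.node 121 (BT.node 120 (BT.leaf 35184372088832) (BT.leaf 0)) (BT.node 122 (BT.leaf 0) (BT.leaf 0))) (BT.node 125 (BT.node 124 (BT.leaf 0) (BT.leaf 1073741824)) (BT.node 126 (BT.leaf 0) (BT.leaf 0))))))))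

/-- The heads of the rotated relators. -/
noncomputable def rotHT : BT := (BT.node 63 (BT.node 31 (BT.node 15 (BT.node 7 (BT.node 3 (BT.node 1 (BT.leaf 0) (BT.node 2 (BT.leaf 0) (BT.leaf 0))) (BT.node 5 (BT.node 4 (BT.leaf 0) (BT.leaf 0)) (BT.node 6 (BT.leaf 0) (BT.leaf 0)))) (BT.node 11 (BT.node 9 (BT.node 8 (BT.leaf 0) (BT.leaf 0)) (BT.node 10 (BT.leaf 0) (BT.leaf 0))) (BT.node 13 (BT.node 12 (BT.leaf 0) (BT.leaf 0)) (BT.node 14 (BT.leaf 0) (BT.leaf 0))))) (BT.node 23 (BT.node 19 (BT.node 17 (BT.node 16 (BT.leaf 0) (BT.leaf 0)) (BT.node 18 (BT.leaf 0) (BT.leaf 0))) (BT.node 21 (BT.node 20 (BT.leaf 0) (BT.leaf 0)) (BT.node 22 (BT.leaf 0) (BT.leaf 0)))) (BT.node 27 (BT.node 25 (BT.node 24 (BT.leaf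 0) (BT.leaf 0)) (BT.node 26 (BT.leaf 0) (BT.leaf 0))) (BT.node 29 (BT.node 28 (BT.leaf 0) (BT.leaf 0)) (BT.node 30 (BT.leaf 0) (BT.leaf 0)))))) (BT.node 47 (BT.node 39 (BT.node 35 (BT.node 33 (BT.node 32 (BT.leaf 0) (BT.leaf 0)) (BT.node 34 (BT.leaf 0) (BT.leaf 0))) (BT.node 37 (BT.node 36 (BT.leaf 0) (BT.leaf 0)) (BT.node 38 (BT.leaf 0) (BT.leaf 0)))) (BT.node 43 (BT.node 41 (BT.node 40 (BT.leaf 0) (BT.leaf 0)) (BT.node 42 (BT.leaf 0) (BT.leaf 0))) (BT.node 45 (BT.node 44 (BT.leaf 0) (BT.leaf 0)) (BT.node 46 (BT.leaf 0) (BT.leaf 0))))) (BT.node 55 (BT.node 51 (BT.node 49 (BT.node 48 (BT.leaf 0) (BT.leaf 1)) (BT.node 50 (BT.leaf 1) (BT.leaf 1))) (BT.node 53 (BT.node 52 (BT.leaf 1) (BT.leaf 1)) (BT.node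 54 (BT.leaf 1) (BT.leaf 1)))) (BT.node 59 (BT.node 57 (BT.node 56 (BT.leaf 1) (BT.leaf 1)) (BT.node 58 (BT.leaf 1) (BT.leaf 1))) (BT.node 61 (BT.node 60 (BT.leaf 1) (BT.leaf 1)) (BT.node 62 (BT.leaf 1) (BT.leaf 2))))))) (BT.node 95 (BT.node 79 (BT.node 71 (BT.node 67 (BT.node 65 (BT.node 64 (BT.leaf 2) (BT.leaf 2)) (BT.node 66 (BT.leaf 2) (BT.leaf 2))) (BT.node 69 (BT.node 68 (BT.leaf 2) (BT.leaf 2)) (BT.node 70 (BT.leaf 2) (BT.leaf 2)))) (BT.node 75 (BT.node 73 (BT.node 72 (BT.leaf 2) (BT.leaf 2)) (BT.node 74 (BT.leaf 2) (BT.leaf 2))) (BT.node 77 (BT.node 76 (BT.leaf 2) (BT.leaf 2)) (BT.node 78 (BT.leaf 2) (BT.leaf 2))))) (BT.node 87 (BT.node 83 (BT.node 81 (BT.node 80 (BT.leaf 2) (BT.leaf 2))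 (BT.node 82 (BT.leaf 2) (BT.leaf 2))) (BT.node 85 (BT.node 84 (BT.leaf 2) (BT.leaf 2)) (BT.node 86 (BT.leaf 2) (BT.leaf 2)))) (BT.node 91 (BT.node 89 (BT.node 88 (BT.leaf 2) (BT.leaf 3)) (BT.node 90 (BT.leaf 3) (BT.leaf 3))) (BT.node 93 (BT.node 92 (BT.leaf 3) (BT.leaf 3)) (BT.node 94 (BT.leaf 3) (BT.leaf 3)))))) (BT.node 111 (BT.node 103 (BT.node 99 (BT.node 97 (BT.node 96 (BT.leaf 3) (BT.leaf 3)) (BT.node 98 (BT.leaf 3) (BT.leaf 3))) (BT.node 101 (BT.node 100 (BT.leaf 3) (BT.leaf 3)) (BT.node 102 (BT.leaf 3) (BT.leaf 3)))) (BT.node 107 (BT.node 105 (BT.node 104 (BT.leaf 3) (BT.leaf 3)) (BT.node 106 (BT.leaf 3) (BT.leaf 3))) (BT.node 109 (BT.node 108 (BT.leaf 3) (BT.leaf 3)) (BT.node 110 (BT.leaf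 3) (BT.leaf 3))))) (BT.node 119 (BT.node 115 (BT.node 113 (BT.node 112 (BT.leaf 3) (BT.leaf 3)) (BT.node 114 (BT.leaf 3) (BT.leaf 3))) (BT.node 117 (BT.node 116 (BT.leaf 3) (BT.leaf 3)) (BT.node 118 (BT.leaf 3) (BT.leaf 3)))) (BT.node 123 (BT.node 121 (BT.node 120 (BT.leaf 3) (BT.leaf 3)) (BT.node 122 (BT.leaf 3) (BT.leaf 3))) (BT.node 125 (BT.node 124 (BT.leaf 3) (BT.leaf 3)) (BT.node 126 (BT.leaf 4) (BT.leaf 5))))))))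

/-- The sources of the rotated relators: relator and rotation. -/
def rotSrc : List (ℕ × ℕ) := [(3, 1), (1, 1), (5, 9), (2, 30), (6, 25), (6, 43), (6, 1), (6, 45), (2, 44), (6, 41), (6, 47), (6, 5), (2, 40), (5, 7), (6, 11), (5, 3), (6, 13), (6, 23), (5, 17), (5, 5), (2, 32), (6, 27), (6, 3), (2, 38), (5, 23), (5, 1), (6, 33), (6, 9), (2, 48), (6, 35), (2, 46), (6, 15), (6, 37), (5, 13), (6, 31), (2, 42), (6, 21), (2, 34), (5, 21), (6, 17), (6, 19), (5, 11), (6, 29), (2, 36), (6, 39), (6, 7), (5, 15), (5, 19), (2, 5), (2, 10), (2, 12), (2, 16), (2, 3), (2, 28), (2, 20), (2, 26), (2, 1), (2, 24), (2, 18), (2, 7), (2, 14), (2, 22), (1, 2), (4, 1), (2, 45), (2, 15), (6, 34), (2, 25), (6, 40), (6,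 16), (6, 46), (6, 22), (2, 33), (6, 30), (6, 36), (6, 8), (2, 37), (6, 10), (2, 23), (2, 47), (2, 21), (2, 43), (2, 19), (6, 42), (5, 46), (6, 32), (2, 39), (6, 12), (5, 10), (6, 6), (2, 29), (6, 26), (5, 2), (2, 4), (2, 17), (6, 38), (2, 6), (2, 8), (2, 9), (5, 18), (6, 14), (5, 0), (5, 20), (2, 11), (5, 16), (6, 2), (6, 18), (6, 44), (5, 8), (6, 24), (6, 28), (6, 0), (5, 4), (5, 6), (2, 41), (2, 13), (6, 4), (2, 31), (5, 12), (6, 20), (2, 0), (2, 35), (2, 27), (2, 2), (5, 14), (0, 12), (1, 0)]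

/-- The relators, as words of columns. -/
def relWords : List (List ℕ) := [[4, 4, 4, 4, 4, 4, 4, 4, 4, 4, 4, 4, 4], [5, 0, 2], [3, 1, 3, 1, 3, 1, 3, 1, 3, 3, 1, 3, 1, 3, 1, 2, 1, 3, 1, 2, 1, 2, 1, 2, 1, 2, 1, 3, 1, 3, 0, 3, 0, 2, 0, 3, 0, 2, 0, 2, 0, 3, 0, 2, 0, 2, 0, 2, 0], [0, 0], [2, 2, 2], [3, 0, 3, 0, 3, 0, 3, 0, 3, 0, 3, 0, 3, 0, 3, 0, 3, 0, 3, 0, 3, 0, 2, 0, 3, 0, 3, 0, 3, 0, 3, 0, 3, 0, 3, 0, 3, 0, 3, 0, 3, 0, 3, 0, 3, 0, 2, 0], [3, 0, 3, 0, 3, 0, 3, 0, 2, 0, 2, 0, 2, 0, 3, 0, 2, 0, 3, 0, 3, 0, 2, 0, 3, 0, 3, 0, 3, 0, 2, 0, 2, 0, 2, 0, 2, 0, 3, 0, 2, 0, 2, 0, 3, 0, 2, 0]]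

/-- The labels of the relators. -/
def relLabs : List (List ℤ) := [[], [], [], [Int.ofNat 1], [Int.ofNat 0, Int.ofNat 1], [Int.ofNat 0, Int.ofNat 0, Int.ofNat 1], [Int.ofNat 0, Int.ofNat 0, Int.ofNat 0, Int.ofNat 1]]

/-- The packed table. -/
noncomputable def ptab : PTab where
  k := 6
  n := 326592
  d := 4
  Tmax := 3919107
  w := 15
  B := 32768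
  G := 0x800100020004000
  G2 := 0xff81ff03fe07fc0
  t2 := 9
  q := 216
  Q := 0x1b0036006c00d8
  tau := fun c i => bget2 (BT.node 3072 (BT.node 1343 (BT.node 478 tauT_0 tauT_1) (BT.node 2207 tauT_2 tauT_3)) (BT.node 4415 (BT.node 3550 tauT_4 tauT_5) (BT.node 5279 tauT_6 tauT_7))) 10 9 19 0x7ffff 511 c i
  stpS := fun c i => bget2 (BT.node 1343 (BT.node 478 stpST_0 stpST_1) (BT.node 2207 stpST_2 stpST_3)) 10 9 22 0x3fffff 511 c i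
  cerS := fun c i => bget2 (BT.node 671 cerST_0 cerST_1) 9 10 10 0x3ff 1023 c i
  labS := fun c i => bget2 (BT.node 2686 (BT.node 957 (BT.node 478 (BT.node 239 labST_0 labST_1) (BT.node 717 labST_2 labST_3)) (BT.node 2207 (BT.node 1196 labST_4 labST_5) (BT.node 2446 labST_6 labST_7))) (BT.node 4415 (BT.node 3164 (BT.node 2925 labST_8 labST_9) (BT.node 4175 labST_10 labST_11)) (BT.node 4893 (BT.node 4654 labST_12 labST_13) (BT.node 5132 labST_14 labST_15)))) 11 8 53 0x1fffffffffffff 255 c i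
  pn := fun i => bget (BT.node 319 pnT_0 pnT_1) 9 19 0x7ffff 511 i
  pc := fun i => bget pcT_0 12 3 0x7 4095 i
  rk := fun i => i
  nrot := 127
  rotH := fun i => rotHT.get i
  rotB := fun i => rotBT.getF i
  rotAN := fun i => rotANT.get i
  hcols := [4]

theorem ptab_ok : ptab.OK where
  hB := by decide +kernel
  hG := by decide +kernel
  hG2 := by decide +kernel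
  hw := by decide +kernel
  ht2 := by decide +kernel
  hq := by decide +kernel
  hQ := by decide +kernel

/-- The table with unpacked labels. -/
noncomputable def tab : LTab := ptab.toLTab

end Cfsg.Agent.Helper9.TCData.G23P0
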